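import Groth.Agent.CommAlgDim.Regular
import Groth.Agent.CMFlatLib.FibreDepth
import Mathlib

/-! Height of a flat quotient with regular fibres. -/

set_option autoImplicit false

universe u

open IsLocalRing

namespace SmoothSubLib

variable {A B C : Type u} [CommRing A] [CommRing B] [CommRing C] [Algebra A B] [Algebra A C]

/-- A flat quotient separates the ideal from the closed fibre. -/
theorem inf_map_le (π : B →ₐ[A] C) (hπ : Function.Surjective π) [Module.Flat A C] (m : Ideal A) :
    RingHom.ker π ⊓ m.map (algebraMap A B) ≤ m.map (algebraMap A B) * RingHom.ker π := by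
  classical
  rintro x ⟨hxJ, hxm⟩
  obtain ⟨k, a, s, hxs⟩ := Submodule.mem_span_set'.1 hxm
  choose r hr hrs using fun i => (s i).2
  have h0 : ∑ i, r i • π (a i) = 0 := by
    have hx' : ∑ i, algebraMap A B (r i) * a i = x := by
      rw [← hxs]
      exact Finset.sum_congr rfl fun i _ => by rw [smul_eq_mul, hrs, mul_comm]
    have : π x = 0 := hxJ
    rw [← hx', map_sum] at this
    simpa [map_mul, Algebra.smul_def] using this
  obtain ⟨l, c, y, hy, hc⟩ := Module.Flat.isTrivialRelation_of_sum_smul_eq_zero (R := A) (M := C) h0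
  dsimp only at hy hc
  choose y' hy' using fun j => hπ (y j)
  have hj : ∀ i, a i - ∑ j, algebraMap A B (c i j) * y' j ∈ RingHom.ker π := fun i => by
    rw [RingHom.mem_ker, map_sub, map_sum, hy i, sub_eq_zero]
    exact Finset.sum_congr rfl fun j _ => by rw [map_mul, AlgHom.commutes, hy', Algebra.smul_def]
  have he : x = ∑ i, algebraMap A B (r i) * (a i - ∑ j, algebraMap A B (c i j) * y' j) := by
    simp only [mul_sub, Finset.sum_sub_distrib, Finset.mul_sum]
    rw [Finset.sum_comm]
    have hz : ∀ j, ∑ i, algebraMap A B (r i) * (algebraMap A B (c i j) * y' j) = 0 := fun j => by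
      have h1 : ∑ i, algebraMap A B (r i) * algebraMap A B (c i j) = 0 := by
        simp only [← map_mul, ← map_sum]
        rw [hc j, map_zero]
      simp only [← mul_assoc]
      rw [← Finset.sum_mul, h1, zero_mul]
    simp only [hz, Finset.sum_const_zero, sub_zero]
    rw [← hxs]
    exact Finset.sum_congr rfl fun i _ => by rw [smul_eq_mul, ← hrs, mul_comm]
  rw [he]
  exact sum_mem fun i _ => Ideal.mul_mem_mul (Ideal.mem_map_of_mem _ (hr i)) (hj i)

variable [IsLocalRing A] [IsLocalRing B] [IsNoetherianRing B] [IsLocalHom (algebraMap A B)]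

/-- Minimal primes of a flat quotient with regular fibres have height at most the fibre dimension. -/
theorem height_le_dim_fib (π : B →ₐ[A] C) (hπ : Function.Surjective π) [Module.Flat A C]
    [IsRegularLocalRing (B ⧸ (maximalIdeal A).map (algebraMap A B))]
    [IsRegularLocalRing (C ⧸ (maximalIdeal A).map (algebraMap A C))]
    (P : Ideal B) (hP : P ∈ (RingHom.ker π).minimalPrimes) :
    (P.height : WithBot ℕ∞) ≤ ringKrullDim (B ⧸ (maximalIdeal A).map (algebraMap A B)) := by
  classical
  set J := RingHom.ker π with hJ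
  set mB := (maximalIdeal A).map (algebraMap A B) with hmB
  have hPprime : P.IsPrime := hP.1.1
  let K : Ideal (B ⧸ mB) := J.map (Ideal.Quotient.mk mB)
  have hmC : (maximalIdeal A).map (algebraMap A C) = mB.map π.toRingHom := by
    rw [hmB, Ideal.map_map, ← π.comp_algebraMap]
    rfl
  let e1 : (B ⧸ mB) ⧸ K ≃+* B ⧸ mB ⊔ J := DoubleQuot.quotQuotEquivQuotSup mB J
  let φ : B →+* C ⧸ (maximalIdeal A).map (algebraMap A C) := (Ideal.Quotient.mk _).comp π.toRingHom
  have hφ : Function.Surjective φ := Ideal.Quotient.mk_surjective.comp hπ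
  have hker : RingHom.ker φ = mB ⊔ J := by
    rw [RingHom.ker_eq_comap_bot, ← Ideal.comap_comap, ← RingHom.ker_eq_comap_bot, Ideal.mk_ker, hmC,
      Ideal.comap_map_of_surjective π.toRingHom hπ]
    rfl
  have : IsRegularLocalRing ((B ⧸ mB) ⧸ K) := IsRegularLocalRing.of_ringEquiv
    ((e1.trans (Ideal.quotEquivOfEq hker.symm)).trans
      (RingHom.quotientKerEquivOfSurjective hφ)).symm
  have hdim := CommAlgDim.ringKrullDim_quotient_add_of_regular_quotient (R := B ⧸ mB) (J := K)
  have hle : (K.spanFinrank : WithBot ℕ∞) ≤ ringKrullDim (B ⧸ mB) := by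
    rw [← hdim]
    exact le_add_of_nonneg_left ringKrullDim_nonneg_of_nontrivial
  obtain ⟨S, hS, hspan⟩ := Submodule.FG.exists_span_set_encard_eq_spanFinrank
    (IsNoetherian.noetherian K : Submodule.FG K)
  have hfin : S.Finite := Set.finite_of_encard_eq_coe hS
  have hlift : ∀ s ∈ S, ∃ x ∈ J, Ideal.Quotient.mk mB x = s := fun s hs =>
    (Ideal.mem_map_iff_of_surjective _ Ideal.Quotient.mk_surjective).1 ((show Submodule.span (B ⧸ mB) S = K from hspan).le (Submodule.subset_span hs))
  choose! l hlJ hl using hlift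
  let L : Ideal B := Ideal.span (l '' S)
  have hLJ : L ≤ J := Ideal.span_le.2 (by rintro _ ⟨s, hs, rfl⟩; exact hlJ s hs)
  have hsub : J ≤ L ⊔ maximalIdeal B • J := by
    intro x hx
    have hxK : Ideal.Quotient.mk mB x ∈ L.map (Ideal.Quotient.mk mB) := by
      rw [Ideal.map_span, ← Set.image_comp]
      have : (Ideal.Quotient.mk mB ∘ l) '' S = S := by
        exact (Set.image_congr (g := id) fun s hs => hl s hs).trans (Set.image_id S)
      rw [this]
      exact (show Submodule.span (B ⧸ mB) S = K from hspan).ge (Ideal.mem_map_of_mem _ hx)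
    obtain ⟨y, hy, hyx⟩ := (Ideal.mem_map_iff_of_surjective _ Ideal.Quotient.mk_surjective).1 hxK
    have hxy : x - y ∈ maximalIdeal B • J := by
      refine Ideal.mul_mono_left ?_ (inf_map_le π hπ (maximalIdeal A)
        ⟨sub_mem hx (hLJ hy), (Ideal.Quotient.eq).1 hyx.symm⟩)
      exact ((IsLocalRing.local_hom_TFAE _).out 0 2).1 ‹IsLocalHom (algebraMap A B)›
    exact Submodule.mem_sup.2 ⟨y, hy, x - y, hxy, add_sub_cancel y x⟩
  have hJL : J = L := le_antisymm
    (Submodule.le_of_le_smul_of_le_jacobson_bot (IsNoetherian.noetherian J)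
      (IsLocalRing.jacobson_eq_maximalIdeal ⊥ bot_ne_top).ge hsub) hLJ
  have hrank : J.spanFinrank ≤ K.spanFinrank := by
    rw [hJL]
    have h1 := Submodule.spanFinrank_span_le_ncard_of_finite (R := B) (hfin.image l)
    refine le_trans h1 (le_trans (Set.ncard_image_le hfin) ?_)
    have : S.ncard = K.spanFinrank := by
      rw [Set.ncard_def, hS]; rfl
    exact this.le
  refine le_trans ?_ hle
  have h2 : P.height ≤ (J.spanFinrank : ℕ∞) := by
    have : (J.spanFinrank : ℕ∞) = J.spanRank.toENat := by
      rw [Submodule.fg_iff_spanRank_eq_spanFinrank.mpr (IsNoetherian.noetherian J), map_natCast]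
    exact this ▸ Ideal.height_le_spanRank_toENat_of_mem_minimalPrimes J P hP
  exact_mod_cast h2.trans (by exact_mod_cast hrank)

end SmoothSubLib
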